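import Cfsg.Agent.Suzuki.Borel
import Cfsg.Agent.SpecLinear.Basic

/-!
Odd prime Sylow subgroups of the Suzuki groups have cyclic overgroups of index prime to `p`.
-/

set_option autoImplicit false

open Polynomial

namespace CfsgLib.SuzukiAut

open CfsgLib.Suzuki

variable {F : Type*} [Field F] {θ : F →+* F} [CharP F 2] [Finite F]

/-- Matrices commuting with an element having irreducible minimal polynomial of full degree lie in a field. -/
theorem exists_injective_of_commute {n : ℕ} (hn : 1 ≤ n) (s : Matrix (Fin n) (Fin n) F)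
    (hirr : Irreducible (minpoly F s)) (hdeg : (minpoly F s).natDegree = n)
    (g : Matrix (Fin n) (Fin n) F) (hg : Commute g s) :
    ∃ k, CfsgLib.SpecLinear.evalRoot s k = g := by
  haveI : Fact (Irreducible (minpoly F s)) := ⟨hirr⟩
  let ev := CfsgLib.SpecLinear.evalRoot s
  have hcomm : ∀ k, Commute g (ev k) := by
    intro k
    induction k using AdjoinRoot.induction_on with
    | ih P =>
      show Commute g (Polynomial.aeval s P)
      rw [Polynomial.aeval_eq_sum_range]
      exact Commute.sum_right _ _ _ fun i _ => (hg.pow_right i).smul_right _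
  let v : Fin n → F := Pi.single ⟨0, hn⟩ 1
  let L : AdjoinRoot (minpoly F s) →ₗ[F] (Fin n → F) :=
    { toFun := fun k => (ev k).mulVec v
      map_add' := fun a b => by rw [map_add, Matrix.add_mulVec]
      map_smul' := fun c a => by rw [map_smul, RingHom.id_apply, Matrix.smul_mulVec] }
  have hinj : Function.Injective L := by
    rw [injective_iff_map_eq_zero]
    intro k hk
    by_contra hk0
    have h := congrArg (fun w => (ev k⁻¹).mulVec w) hk
    simp only [L, LinearMap.coe_mk, AddHom.coe_mk] at h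
    rw [Matrix.mulVec_mulVec, ← map_mul, inv_mul_cancel₀ hk0, map_one, Matrix.one_mulVec,
      Matrix.mulVec_zero] at h
    exact one_ne_zero (α := F) (by simpa [v] using congrFun h ⟨0, hn⟩)
  let pb := AdjoinRoot.powerBasis hirr.ne_zero
  haveI : Module.Finite F (AdjoinRoot (minpoly F s)) := pb.finite
  have hsurj : Function.Surjective L := by
    refine (LinearMap.injective_iff_surjective_of_finrank_eq_finrank ?_).1 hinj
    rw [pb.finrank, AdjoinRoot.powerBasis_dim, hdeg, Module.finrank_fin_fun]
  obtain ⟨k, hk⟩ := hsurj (g.mulVec v)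
  refine ⟨k, ?_⟩
  apply Matrix.toLin'.injective
  refine LinearMap.ext fun w => ?_
  obtain ⟨k', rfl⟩ := hsurj w
  show (ev k).mulVec ((ev k').mulVec v) = g.mulVec ((ev k').mulVec v)
  have hk' : (ev k).mulVec v = g.mulVec v := hk
  rw [Matrix.mulVec_mulVec, ← map_mul, mul_comm, map_mul, ← Matrix.mulVec_mulVec, hk',
    Matrix.mulVec_mulVec, (hcomm k').eq.symm, ← Matrix.mulVec_mulVec]

theorem irreducible_minpoly_of_dvd [Fintype F] {s : Matrix (Fin 4) (Fin 4) F} {p : ℕ} [Fact p.Prime]
    (hp2 : p ≠ 2) (hp : p ∣ Fintype.card F ^ 2 + 1) (hs : s ^ p = 1) (hs1 : s ≠ 1) :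
    Irreducible (minpoly F s) ∧ (minpoly F s).natDegree = 4 := by
  classical
  have hpp := (Fact.out : p.Prime)
  have hpF : (p : F) ≠ 0 := by
    rw [Ne, CharP.cast_eq_zero_iff F 2]
    exact fun h => hp2 ((Nat.prime_dvd_prime_iff_eq Nat.prime_two hpp).1 h).symm
  have hint : IsIntegral F s := Matrix.isIntegral s
  have hμ0 := minpoly.ne_zero hint
  have hμle := CfsgLib.SpecLinear.natDegree_minpoly_le s
  by_cases hall : ∀ f, Irreducible f → f ∣ minpoly F s → Associated f (X - C 1)
  · exfalso
    apply hs1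
    have hsq := CfsgLib.SpecLinear.squarefree_minpoly s p hpF hs
    have hd : minpoly F s ∣ X - C 1 := by
      refine (UniqueFactorizationMonoid.prod_normalizedFactors hμ0).symm.dvd.trans ?_
      refine Multiset.prod_primes_dvd _ (fun f hf => UniqueFactorizationMonoid.prime_of_normalized_factor f hf) ?_
        (fun f => ?_)
      · intro f hf
        exact (hall f (UniqueFactorizationMonoid.irreducible_of_normalized_factor f hf)
          (UniqueFactorizationMonoid.dvd_of_mem_normalizedFactors hf)).dvd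
      · have hnd := (UniqueFactorizationMonoid.squarefree_iff_nodup_normalizedFactors hμ0).1 hsq
        rw [Multiset.countP_eq_card_filter, ← Multiset.toFinset_card_of_nodup (hnd.filter _), Finset.card_le_one_iff]
        intro x y hx hy
        rw [Multiset.mem_toFinset, Multiset.mem_filter] at hx hy
        rw [← UniqueFactorizationMonoid.normalize_normalized_factor x hx.1,
          ← UniqueFactorizationMonoid.normalize_normalized_factor y hy.1]
        exact normalize_eq_normalize_iff.2
          ⟨(hx.2.symm.trans hy.2).dvd, (hy.2.symm.trans hx.2).dvd⟩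
    have h := aeval_eq_zero_of_dvd_aeval_eq_zero hd (minpoly.aeval F s)
    simpa [sub_eq_zero] using h
  push Not at hall
  obtain ⟨f, hfi, hfd, hf1⟩ := hall
  haveI : Fact (Irreducible f) := ⟨hfi⟩
  let pb := AdjoinRoot.powerBasis hfi.ne_zero
  haveI : Module.Finite F (AdjoinRoot f) := pb.finite
  haveI : Finite (AdjoinRoot f) := Module.finite_of_finite F
  haveI : Fintype (AdjoinRoot f) := Fintype.ofFinite _
  have hroot : (AdjoinRoot.root f) ^ p = 1 := by
    have hN' : f ∣ X ^ p - 1 := hfd.trans (minpoly.dvd F s (by simp [hs]))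
    rw [← AdjoinRoot.mk_eq_zero, map_sub, map_pow, AdjoinRoot.mk_X, map_one, sub_eq_zero] at hN'
    exact hN'
  have hr1 : AdjoinRoot.root f ≠ 1 := by
    intro h
    have : f ∣ X - C 1 := by
      rw [← AdjoinRoot.mk_eq_zero, map_sub, AdjoinRoot.mk_X, map_one, map_one, h, sub_self]
    exact hf1 (hfi.associated_of_dvd (irreducible_X_sub_C 1) this)
  have hr0 : AdjoinRoot.root f ≠ 0 := fun h => by
    rw [h, zero_pow hpp.ne_zero] at hroot; exact zero_ne_one hroot
  have hord : orderOf (AdjoinRoot.root f) = p := orderOf_eq_prime hroot hr1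
  have hc : Fintype.card (AdjoinRoot f) = Fintype.card F ^ f.natDegree := by
    rw [Module.card_eq_pow_finrank (K := F), pb.finrank, AdjoinRoot.powerBasis_dim]
  have hdvd : p ∣ Fintype.card F ^ f.natDegree - 1 := by
    rw [← hord, ← hc]
    exact orderOf_dvd_of_pow_eq_one (FiniteField.pow_card_sub_one_eq_one _ hr0)
  have hle : f.natDegree ≤ 4 := (natDegree_le_of_dvd hfd hμ0).trans hμle
  have h4 : f.natDegree = 4 := by
    have hpos := hfi.natDegree_pos
    obtain ⟨q, hq⟩ : ∃ q, q = Fintype.card F := ⟨_, rfl⟩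
    rw [← hq] at hdvd hp
    haveI : Fact p.Prime := ⟨hpp⟩
    have hp' : (q : ZMod p) ^ 2 = -1 := by
      rw [← ZMod.natCast_eq_zero_iff] at hp
      push_cast at hp
      linear_combination hp
    have hd' : (q : ZMod p) ^ f.natDegree = 1 := by
      have h1 : 1 ≤ q ^ f.natDegree := Nat.one_le_pow _ _ (hq ▸ Fintype.card_pos)
      rw [← ZMod.natCast_eq_zero_iff] at hdvd
      rw [Nat.cast_sub h1, sub_eq_zero] at hdvd
      push_cast at hdvd
      exact hdvd
    have h20 : (2 : ZMod p) ≠ 0 := fun h => by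
      have h' : ((2 : ℕ) : ZMod p) = 0 := by exact_mod_cast h
      rw [ZMod.natCast_eq_zero_iff] at h'
      exact hp2 ((Nat.prime_dvd_prime_iff_eq hpp Nat.prime_two).1 h')
    by_contra hne
    obtain h | h | h : f.natDegree = 1 ∨ f.natDegree = 2 ∨ f.natDegree = 3 := by omega
    all_goals rw [h] at hd'
    · rw [pow_one] at hd'; rw [hd'] at hp'; exact h20 (by linear_combination hp')
    · rw [hd'] at hp'; exact h20 (by linear_combination hp')
    · have : (q : ZMod p) = -1 := by linear_combination (q : ZMod p) * hp' - hd'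
      rw [this] at hp'; exact h20 (by linear_combination hp')
  have hass : Associated f (minpoly F s) := associated_of_dvd_of_natDegree_le hfd hμ0 (by omega)
  exact ⟨hass.irreducible hfi, by rw [← natDegree_eq_of_degree_eq (degree_eq_degree_of_associated hass), h4]⟩

theorem exists_cyclic_index_not_dvd [Fintype F] (hT : TitsEndo θ) {p : ℕ} [Fact p.Prime] (hp2 : p ≠ 2) :
    ∃ H : Subgroup (grp θ), IsCyclic H ∧ ¬ p ∣ H.index := by
  classical
  have hpp := (Fact.out : p.Prime)
  obtain ⟨P⟩ : Nonempty (Sylow p (grp θ)) := inferInstance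
  by_cases hP : (P : Subgroup (grp θ)) = ⊥
  · exact ⟨P, by rw [hP]; exact isCyclic_of_subsingleton, P.not_dvd_index⟩
  obtain ⟨k, hk1, hk⟩ := CfsgLib.Suzuki.card_field (F := F)
  have hpq : ¬ p ∣ Nat.card F := by
    rw [hk]; intro h
    exact hp2 ((Nat.prime_dvd_prime_iff_eq hpp Nat.prime_two).1 (hpp.dvd_of_dvd_pow h))
  by_cases hd : p ∣ Nat.card F - 1
  · let tHom : Fˣ →* grp θ := MonoidHom.mk' (tElt hT) fun a b => (tElt_mul hT a b).symm
    have hinj : Function.Injective tHom := fun a b h => tMat_injective (congrArg Subtype.val h)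
    refine ⟨tHom.range, isCyclic_of_surjective tHom.rangeRestrict tHom.rangeRestrict_surjective, ?_⟩
    have e := Subgroup.card_mul_index tHom.range
    have hc : Nat.card tHom.range = Nat.card F - 1 := by
      rw [← Nat.card_congr (MonoidHom.ofInjective hinj).toEquiv, Nat.card_units]
    rw [hc, card_grp hT, mul_comm _ (Nat.card F - 1)] at e
    have hq1 : 0 < Nat.card F - 1 := by have : 1 < Nat.card F := Finite.one_lt_card; omega
    rw [Nat.eq_of_mul_eq_mul_left hq1 e]
    intro h
    rcases (Nat.Prime.dvd_mul hpp).1 h with h' | h'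
    · exact hpq (hpp.dvd_of_dvd_pow h')
    · have h1 : 1 ≤ Nat.card F := Nat.card_pos
      obtain ⟨j, hj⟩ : ∃ j, Nat.card F = j + 1 := ⟨_, (Nat.sub_add_cancel h1).symm⟩
      rw [hj, Nat.add_sub_cancel] at hd
      rw [hj, show (j + 1) ^ 2 + 1 = (j + 2) * j + 2 by ring] at h'
      exact hp2 ((Nat.prime_dvd_prime_iff_eq hpp Nat.prime_two).1
        ((Nat.dvd_add_right (hd.mul_left _)).1 h'))
  refine ⟨P, ?_, P.not_dvd_index⟩
  haveI : Nontrivial (P : Subgroup (grp θ)) := (Subgroup.nontrivial_iff_ne_bot _).2 hP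
  have hdvd : p ∣ Nat.card (Subgroup.center (P : Subgroup (grp θ))) := by
    obtain ⟨j, hj, he⟩ :=
      (IsPGroup.nontrivial_iff_card (P.isPGroup'.to_subgroup (Subgroup.center _))).1 P.isPGroup'.center_nontrivial
    rw [he]; exact dvd_pow_self p hj.ne'
  obtain ⟨z, hz⟩ := exists_prime_orderOf_dvd_card' p hdvd
  obtain ⟨z', hz'⟩ : ∃ z' : grp θ, z' = ((z : (P : Subgroup (grp θ))) : grp θ) := ⟨_, rfl⟩
  have hzo : orderOf z' = p := by rw [hz', Subgroup.orderOf_coe, Subgroup.orderOf_coe, hz]
  have hpG : p ∣ Nat.card (grp θ) := hzo ▸ orderOf_dvd_natCard z'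
  have hp4 : p ∣ Fintype.card F ^ 2 + 1 := by
    rw [card_grp hT] at hpG
    rcases (Nat.Prime.dvd_mul hpp).1 hpG with h | h
    · rcases (Nat.Prime.dvd_mul hpp).1 h with h | h
      · exact absurd (hpp.dvd_of_dvd_pow h) hpq
      · rwa [← Nat.card_eq_fintype_card]
    · exact absurd h hd
  let coeM : grp θ →* Matrix (Fin 4) (Fin 4) F :=
    { toFun := fun g => ((g : Matrix.SpecialLinearGroup (Fin 4) F) : Matrix (Fin 4) (Fin 4) F)
      map_one' := rfl
      map_mul' := fun _ _ => rfl }
  have hinjM : Function.Injective coeM := fun a b h => Subtype.ext (Subtype.ext h)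
  have hs : coeM z' ^ p = 1 := by rw [← map_pow, ← hzo, pow_orderOf_eq_one, map_one]
  have hs1 : coeM z' ≠ 1 := fun h => by
    rw [← map_one coeM] at h
    rw [hinjM h, orderOf_one] at hzo
    exact hpp.one_lt.ne hzo
  obtain ⟨hirr, hdeg⟩ := irreducible_minpoly_of_dvd hp2 hp4 hs hs1
  haveI : Fact (Irreducible (minpoly F (coeM z'))) := ⟨hirr⟩
  have hex : ∀ g : (P : Subgroup (grp θ)),
      ∃ k, CfsgLib.SpecLinear.evalRoot (coeM z') k = coeM (g : grp θ) := fun g => by
    refine exists_injective_of_commute (by norm_num) _ hirr hdeg _ ?_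
    have e := Subgroup.mem_center_iff.1 z.2 g
    show coeM _ * coeM _ = coeM _ * coeM _
    rw [← map_mul, ← map_mul, hz']
    exact congrArg coeM (congrArg Subtype.val e)
  choose f hf using hex
  have hinj' : Function.Injective (CfsgLib.SpecLinear.evalRoot (coeM z')) :=
    RingHom.injective (CfsgLib.SpecLinear.evalRoot (coeM z')).toRingHom
  refine isCyclic_of_injective_ringHom
    ({ toFun := f
       map_one' := hinj' (by rw [hf, map_one]; rfl)
       map_mul' := fun a b => hinj' (by rw [hf, map_mul, hf, hf]; rfl) } :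
      (P : Subgroup (grp θ)) →* AdjoinRoot (minpoly F (coeM z')))
    (fun a b h => ?_)
  have h' : coeM (a : grp θ) = coeM b := by
    rw [← hf, ← hf]; exact congrArg _ h
  exact Subtype.ext (hinjM h')

end CfsgLib.SuzukiAut
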